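import Mathlib
import Groth.Agent.Lib.Helper5.KFlatG.Res

/-!
# Functoriality of the cell attachment step (helper5)
-/

set_option autoImplicit false
set_option linter.unusedSectionVars false
set_option linter.unusedVariables false
universe w v u
open CategoryTheory CategoryTheory.Limits HomologicalComplex CochainComplex HomComplex

namespace Groth.Agent.Lib.Helper5.KFlatF

open mappingCone Groth.Agent.Lib.Helper5.KFlatG

variable {A : Type u} [Category.{v} A] [Abelian A]
variable (cov : A ⥤ A) (π : cov ⟶ 𝟭 A)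

/-- the functor of cells of a complex -/
noncomputable def Zf : CochainComplex A ℤ ⥤ CochainComplex A ℤ where
  obj K := zcx (fun n => cov.obj (K.cycles (n - 1)))
  map φ :=
    { f := fun n => cov.map (HomologicalComplex.cyclesMap φ (n - 1))
      comm' := fun i j _ => by simp [zcx] }
  map_id K := by
    ext n
    change cov.map (HomologicalComplex.cyclesMap (𝟙 K) (n - 1)) = 𝟙 (cov.obj (K.cycles (n - 1)))
    rw [HomologicalComplex.cyclesMap_id, cov.map_id]
  map_comp φ ψ := by
    ext n
    change cov.map (HomologicalComplex.cyclesMap (φ ≫ ψ) (n - 1)) =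
      cov.map (HomologicalComplex.cyclesMap φ (n - 1)) ≫
        cov.map (HomologicalComplex.cyclesMap ψ (n - 1))
    rw [HomologicalComplex.cyclesMap_comp, cov.map_comp]

lemma Zf_d (K : CochainComplex A ℤ) (i j : ℤ) : ((Zf cov).obj K).d i j = 0 := rfl

lemma Zf_map_f {K L : CochainComplex A ℤ} (φ : K ⟶ L) (n : ℤ) :
    ((Zf cov).map φ).f n = cov.map (HomologicalComplex.cyclesMap φ (n - 1)) := rfl

section Sq

variable {P X : CochainComplex A ℤ} (f : P ⟶ X)

/-- the covering of the cycles -/
noncomputable def cπ (n : ℤ) :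
    ((Zf cov).obj (mappingCone f)).X n ⟶ (mappingCone f).cycles (n - 1) :=
  π.app _

/-- the next stage -/
noncomputable abbrev nx : CochainComplex A ℤ :=
  nextCx f ((Zf cov).obj (mappingCone f)) (Zf_d cov _) (cπ cov π f)

/-- the map from the next stage -/
noncomputable abbrev nxM : nx cov π f ⟶ X :=
  nextMap f ((Zf cov).obj (mappingCone f)) (Zf_d cov _) (cπ cov π f)

/-- the inclusion into the next stage -/
noncomputable abbrev nxI : P ⟶ nx cov π f :=
  nextι f ((Zf cov).obj (mappingCone f)) (Zf_d cov _) (cπ cov π f)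

/-- the attaching map -/
noncomputable abbrev att : (Zf cov).obj (mappingCone f) ⟶ P :=
  cellMap f ((Zf cov).obj (mappingCone f)) (Zf_d cov _) (cπ cov π f)

variable {P' X' : CochainComplex A ℤ} (f' : P' ⟶ X') (a : P ⟶ P') (b : X ⟶ X')
  (w : f ≫ b = a ≫ f')

lemma map_f_fst (p q : ℤ) (hpq : p + 1 = q) :
    (mappingCone.map f f' a b w).f p ≫ (fst f').1.v p q hpq = (fst f).1.v p q hpq ≫ a.f q := by
  apply ext_from f q p hpq
  · simp [mappingCone.map]
  · simp [mappingCone.map]

lemma map_f_snd (p : ℤ) :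
    (mappingCone.map f f' a b w).f p ≫ (snd f').v p p (add_zero p) =
      (snd f).v p p (add_zero p) ≫ b.f p := by
  apply ext_from f (p + 1) p rfl
  · simp [mappingCone.map]
  · simp [mappingCone.map]

lemma map_f_snd' (p q : ℤ) (hpq : p + 0 = q) :
    (mappingCone.map f f' a b w).f p ≫ (snd f').v p q hpq =
      (snd f).v p q hpq ≫ b.f q := by
  obtain rfl : p = q := by omega
  exact map_f_snd f f' a b w p

/-- the induced map on cells -/
noncomputable def cellsSq : (Zf cov).obj (mappingCone f) ⟶ (Zf cov).obj (mappingCone f') :=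
  (Zf cov).map (mappingCone.map f f' a b w)

lemma gg_sq (n : ℤ) :
    (cellsSq cov f f' a b w).f n ≫ gg f' ((Zf cov).obj (mappingCone f')) (cπ cov π f') n =
      gg f ((Zf cov).obj (mappingCone f)) (cπ cov π f) n ≫
        (mappingCone.map f f' a b w).f (n - 1) := by
  have h1 := π.naturality (HomologicalComplex.cyclesMap (mappingCone.map f f' a b w) (n - 1))
  simp only [Functor.id_obj, Functor.id_map] at h1
  change cov.map (HomologicalComplex.cyclesMap (mappingCone.map f f' a b w) (n - 1)) ≫
      π.app ((mappingCone f').cycles (n - 1)) ≫ (mappingCone f').iCycles (n - 1) =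
    (π.app ((mappingCone f).cycles (n - 1)) ≫ (mappingCone f).iCycles (n - 1)) ≫
      (mappingCone.map f f' a b w).f (n - 1)
  rw [reassoc_of% h1, HomologicalComplex.cyclesMap_i, Category.assoc]

lemma att_sq : att cov π f ≫ a = cellsSq cov f f' a b w ≫ att cov π f' := by
  ext n
  simp only [HomologicalComplex.comp_f, cellMap, Category.assoc]
  rw [reassoc_of% (gg_sq cov π f f' a b w n), map_f_fst f f' a b w (n - 1) n (by omega)]

/-- the induced map on the next stages -/
noncomputable def nxSq : nx cov π f ⟶ nx cov π f' :=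
  mappingCone.map (att cov π f) (att cov π f') (cellsSq cov f f' a b w) a (att_sq cov π f f' a b w)

lemma nxI_nxSq : nxI cov π f ≫ nxSq cov π f f' a b w = a ≫ nxI cov π f' := by
  simp [nxSq, mappingCone.map]

lemma nxSq_nxM : nxSq cov π f f' a b w ≫ nxM cov π f' = nxM cov π f ≫ b := by
  ext n
  apply ext_from (att cov π f) (n + 1) n rfl
  · simp only [HomologicalComplex.comp_f, nxSq, mappingCone.map]
    rw [inl_v_desc_f_assoc, inl_v_desc_f_assoc]
    simp only [Cochain.comp_v _ _ (zero_add (-1)) (n + 1) (n + 1) n (add_zero _) (by omega),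
      Cochain.ofHom_v, Category.assoc, inl_v_desc_f]
    simp only [cellCochain, Cochain.mk_v, Preadditive.comp_neg, Preadditive.neg_comp,
      Category.assoc, neg_inj]
    rw [reassoc_of% (gg_sq cov π f f' a b w (n + 1))]
    rw [map_f_snd' f f' a b w (n + 1 - 1) n (by omega)]
  · have hw := congrArg (fun g => g.f n) w
    simp only [HomologicalComplex.comp_f] at hw
    simp [nxSq, mappingCone.map, hw]

lemma cellsSq_id : cellsSq cov f f (𝟙 P) (𝟙 X) (by simp) = 𝟙 _ := by
  unfold cellsSq
  rw [mappingCone.map_id, (Zf cov).map_id]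

lemma nxSq_id : nxSq cov π f f (𝟙 P) (𝟙 X) (by simp) = 𝟙 _ := by
  unfold nxSq
  rw [map_congr (att cov π f) (att cov π f) (cellsSq_id cov f) rfl]
  exact mappingCone.map_id _

variable {P'' X'' : CochainComplex A ℤ} (f'' : P'' ⟶ X'') (a' : P' ⟶ P'') (b' : X' ⟶ X'')
  (w' : f' ≫ b' = a' ≫ f'')

lemma cellsSq_comp :
    cellsSq cov f f'' (a ≫ a') (b ≫ b') (by rw [reassoc_of% w, w', Category.assoc]) =
      cellsSq cov f f' a b w ≫ cellsSq cov f' f'' a' b' w' := by
  unfold cellsSq
  rw [mappingCone.map_comp f f' f'' a b w a' b' w', (Zf cov).map_comp]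

lemma nxSq_comp :
    nxSq cov π f f'' (a ≫ a') (b ≫ b') (by rw [reassoc_of% w, w', Category.assoc]) =
      nxSq cov π f f' a b w ≫ nxSq cov π f' f'' a' b' w' := by
  unfold nxSq
  rw [map_congr (att cov π f) (att cov π f'') (cellsSq_comp cov f f' a b w f'' a' b' w') rfl]
  exact mappingCone.map_comp _ _ _ _ _ _ _ _ _

end Sq

end Groth.Agent.Lib.Helper5.KFlatF
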