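import Mathlib
import Groth.Agent.Lib.Helper5.KFlatF.Sq

/-!
# Functorial resolutions by iterated functorial cell attachment (helper5)
-/

set_option autoImplicit false
set_option linter.unusedSectionVars false
set_option linter.unusedVariables false
universe w v u
open CategoryTheory CategoryTheory.Limits HomologicalComplex CochainComplex HomComplex

namespace Groth.Agent.Lib.Helper5.KFlatF

open mappingCone Groth.Agent.Lib.Helper5.KFlatG

variable {A : Type u} [Category.{v} A] [Abelian A]
variable (cov : A ⥤ A) (π : cov ⟶ 𝟭 A)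

lemma nxSq_congr {P X P' X' : CochainComplex A ℤ} (f : P ⟶ X) (f' : P' ⟶ X')
    {a a' : P ⟶ P'} {b b' : X ⟶ X'} (ha : a = a') (hb : b = b') (w : f ≫ b = a ≫ f') :
    nxSq cov π f f' a b w = nxSq cov π f f' a' b' (by rw [← ha, ← hb, w]) := by
  subst ha hb
  rfl

variable (A) in
/-- a functorial stage: an endofunctor of complexes with a natural map to the identity -/
structure FStage where
  /-- the functor -/
  P : CochainComplex A ℤ ⥤ CochainComplex A ℤ
  /-- the augmentation -/
  f : P ⟶ 𝟭 (CochainComplex A ℤ)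

variable (s : FStage A)

lemma FStage.w {X Y : CochainComplex A ℤ} (φ : X ⟶ Y) :
    s.f.app X ≫ φ = s.P.map φ ≫ s.f.app Y := (s.f.naturality φ).symm

/-- the next functorial stage -/
noncomputable def FStage.next : FStage A where
  P :=
    { obj := fun X => nx cov π (s.f.app X)
      map := fun {X Y} φ => nxSq cov π (s.f.app X) (s.f.app Y) (s.P.map φ) φ (s.w φ)
      map_id := fun X => by
        rw [nxSq_congr cov π (s.f.app X) (s.f.app X) (s.P.map_id X) rfl (s.w (𝟙 X))]
        exact nxSq_id cov π (s.f.app X)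
      map_comp := fun {X Y Z} φ ψ => by
        rw [nxSq_congr cov π (s.f.app X) (s.f.app Z) (s.P.map_comp φ ψ) rfl (s.w (φ ≫ ψ))]
        exact nxSq_comp cov π (s.f.app X) (s.f.app Y) (s.P.map φ) φ (s.w φ) (s.f.app Z)
          (s.P.map ψ) ψ (s.w ψ) }
  f :=
    { app := fun X => nxM cov π (s.f.app X)
      naturality := fun X Y φ => nxSq_nxM cov π (s.f.app X) (s.f.app Y) (s.P.map φ) φ (s.w φ) }

/-- the inclusion into the next stage -/
noncomputable def FStage.ι : s.P ⟶ (s.next cov π).P where
  app X := nxI cov π (s.f.app X)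
  naturality X Y φ := (nxI_nxSq cov π (s.f.app X) (s.f.app Y) (s.P.map φ) φ (s.w φ)).symm

lemma FStage.ι_f : s.ι cov π ≫ (s.next cov π).f = s.f := by
  ext X : 2
  exact nextι_nextMap _ _ _ _

/-- the sequence of functorial stages -/
noncomputable def fstage : ℕ → FStage A
  | 0 => ⟨Zf cov, 0⟩
  | k + 1 => (fstage k).next cov π

/-- the transition maps -/
noncomputable def fι (k : ℕ) : (fstage cov π k).P ⟶ (fstage cov π (k + 1)).P :=
  (fstage cov π k).ι cov π

lemma fι_f (k : ℕ) : fι cov π k ≫ (fstage cov π (k + 1)).f = (fstage cov π k).f :=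
  FStage.ι_f cov π _

variable [HasColimitsOfShape ℕ A]

/-- the diagram of functorial stages -/
noncomputable def FD : ℕ ⥤ (CochainComplex A ℤ ⥤ CochainComplex A ℤ) :=
  Functor.ofSequence (fι cov π)

lemma FD_map_succ (k : ℕ) : (FD cov π).map (homOfLE (Nat.le_succ k)) = fι cov π k :=
  Functor.ofSequence_map_homOfLE_succ _ k

/-- the cocone with point the identity functor -/
noncomputable def fcocone : Cocone (FD cov π) where
  pt := 𝟭 _
  ι := NatTrans.ofSequence (fun k => (fstage cov π k).f) (fun k => by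
    have h1 : (FD cov π).map (homOfLE (Nat.le_add_right k 1)) = fι cov π k :=
      Functor.ofSequence_map_homOfLE_succ _ k
    rw [h1]
    exact (fι_f cov π k).trans (Category.comp_id _).symm)

/-- the functorial resolution -/
noncomputable def Pf : CochainComplex A ℤ ⥤ CochainComplex A ℤ := colimit (FD cov π)

/-- the augmentation of the functorial resolution -/
noncomputable def ψf : Pf cov π ⟶ 𝟭 _ := colimit.desc (FD cov π) (fcocone cov π)

section Obj

variable (X : CochainComplex A ℤ)

/-- the evaluated diagram -/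
noncomputable abbrev DX : ℕ ⥤ CochainComplex A ℤ :=
  FD cov π ⋙ (evaluation _ _).obj X

/-- the evaluated colimit cocone -/
noncomputable abbrev cX : Cocone (DX cov π X) :=
  ((evaluation _ _).obj X).mapCocone (colimit.cocone (FD cov π))

/-- it is a colimit cocone -/
noncomputable def hcX : IsColimit (cX cov π X) :=
  isColimitOfPreserves _ (colimit.isColimit (FD cov π))

/-- the evaluated cocone with point `X` -/
noncomputable abbrev sX : Cocone (DX cov π X) :=
  ((evaluation _ _).obj X).mapCocone (fcocone cov π)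

lemma desc_eq : (hcX cov π X).desc (sX cov π X) = (ψf cov π).app X := by
  refine ((hcX cov π X).uniq (sX cov π X) ((ψf cov π).app X) (fun k => ?_)).symm
  change (colimit.ι (FD cov π) k).app X ≫ (colimit.desc (FD cov π) (fcocone cov π)).app X =
    ((fcocone cov π).ι.app k).app X
  rw [← NatTrans.comp_app, colimit.ι_desc]

variable [HasDerivedCategory.{w} A] [HasExactColimitsOfShape ℕ A] (hπ : ∀ M : A, Epi (π.app M))

include hπ in
theorem quasiIso_ψf_app : QuasiIso ((ψf cov π).app X) := by
  rw [← desc_eq]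
  refine quasiIso_desc (DX cov π X) (cX cov π X) (hcX cov π X) (sX cov π X) (fun k i => ?_)
  have hk : (sX cov π X).ι.app k = (fstage cov π k).f.app X := rfl
  have hk1 : (sX cov π X).ι.app (k + 1) = nxM cov π ((fstage cov π k).f.app X) := rfl
  have hmap : (DX cov π X).map (homOfLE (Nat.le_succ k)) =
      nxI cov π ((fstage cov π k).f.app X) := by
    change ((FD cov π).map (homOfLE (Nat.le_succ k))).app X = _
    rw [FD_map_succ]
    rfl
  have e : (coneTower (DX cov π X) (sX cov π X)).map (homOfLE (Nat.le_succ k)) =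
      mappingCone.map ((fstage cov π k).f.app X) (nxM cov π ((fstage cov π k).f.app X))
        (nxI cov π ((fstage cov π k).f.app X)) (𝟙 X) (by simp) := by
    exact map_congr ((sX cov π X).ι.app k) ((sX cov π X).ι.app (k + 1)) hmap rfl
      (by rw [Category.comp_id, (sX cov π X).w])
  rw [e]
  haveI : ∀ n, Epi (cπ cov π ((fstage cov π k).f.app X) n) := fun n => hπ _
  obtain ⟨n, rfl⟩ : ∃ n, i = n - 1 := ⟨i + 1, by omega⟩
  exact homologyMap_coneMap ((fstage cov π k).f.app X) _ (Zf_d cov _) (cπ cov π _) n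

end Obj

section KF

variable {Fl : A → Prop} (hFl : ∀ M : A, Fl (cov.obj M))
  (KF : CochainComplex A ℤ → Prop)
  (hzero : ∀ G : CochainComplex A ℤ, (∀ i j, G.d i j = 0) → (∀ n, Fl (G.X n)) → KF G)
  (hcone : ∀ {K₁ K₂ : CochainComplex A ℤ} (φ : K₁ ⟶ K₂), KF K₁ → KF K₂ → KF (mappingCone φ))
  (hcolim : ∀ D : ℕ ⥤ CochainComplex A ℤ, (∀ k, KF (D.obj k)) → KF (colimit D))
  (hiso : ∀ {K L : CochainComplex A ℤ}, (K ≅ L) → KF K → KF L)

include hFl hzero hcone in
theorem kf_fstage (k : ℕ) (X : CochainComplex A ℤ) : KF ((fstage cov π k).P.obj X) := by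
  induction k with
  | zero => exact hzero _ (Zf_d cov X) (fun n => hFl _)
  | succ k ih =>
    exact hcone (att cov π ((fstage cov π k).f.app X)) (hzero _ (Zf_d cov _) (fun n => hFl _)) ih

include hFl hzero hcone hcolim hiso in
theorem kf_Pf (X : CochainComplex A ℤ) : KF ((Pf cov π).obj X) := by
  have h := hcolim (DX cov π X) (fun k => kf_fstage cov π hFl KF hzero hcone k X)
  exact hiso (colimitObjIsoColimitCompEvaluation (FD cov π) X).symm h

variable [HasDerivedCategory.{w} A] [HasExactColimitsOfShape ℕ A] (hπ : ∀ M : A, Epi (π.app M))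

include hFl hzero hcone hcolim hiso hπ in
/-- **functorial resolutions** -/
theorem exists_functorial_resolution :
    ∃ (P : CochainComplex A ℤ ⥤ CochainComplex A ℤ) (ψ : P ⟶ 𝟭 (CochainComplex A ℤ)),
      ∀ X : CochainComplex A ℤ, KF (P.obj X) ∧ QuasiIso (ψ.app X) :=
  ⟨Pf cov π, ψf cov π, fun X =>
    ⟨kf_Pf cov π hFl KF hzero hcone hcolim hiso X, quasiIso_ψf_app cov π X hπ⟩⟩

end KF

end Groth.Agent.Lib.Helper5.KFlatF
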