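import Mathlib
import Groth.Agent.Lib.Helper5.KFlatF.Funct
import Groth.Agent.Lib.Helper5.KFlatSite2.Res
import Groth.Agent.Lib.Helper5.Misc.TensorFlat

/-!
# Functorial K-flat resolutions on a ringed site (helper5)
-/

set_option autoImplicit false
set_option linter.unusedSectionVars false
set_option linter.unusedVariables false
set_option linter.style.haveILetI false
universe u
open CategoryTheory CategoryTheory.Limits HomologicalComplex MonoidalCategory
attribute [local instance] HasDerivedCategory.standard

namespace Groth.Agent.Lib.Helper5.KFlatF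

open Groth.Agent.Lib.Helper5.KFlatG Groth.Agent.Lib.Helper5.Misc.KFlatSite
  Groth.Agent.Lib.Helper5.TensorSES Groth.Agent.Lib.Helper5.TensorSheaf
  Groth.Agent.Lib.Helper5.Misc.KFlatGen Groth.Agent.Lib.Helper5.KFlatSiteQ

variable {C : Type u} [SmallCategory C] {J : GrothendieckTopology C} (O : Sheaf J CommRingCat.{u})

/-- the free presheaf of modules on the underlying presheaf of sets, as a functor -/
noncomputable def covP : PM O ⥤ PM O :=
  (PresheafOfModules.toPresheaf _ ⋙ (Functor.whiskeringRight _ _ _).obj (forget Ab)) ⋙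
    PresheafOfModules.free _

/-- the canonical map from the free cover -/
noncomputable def cntP : covP O ⟶ 𝟭 (PM O) := (PresheafOfModules.freeAdjunction _).counit

lemma covP_obj (M : PM O) : (covP O).obj M = Groth.Agent.Lib.Helper5.TensorFlat.freeCover M := rfl

lemma cntP_app (M : PM O) :
    (cntP O).app M = Groth.Agent.Lib.Helper5.TensorFlat.freeCoverπ M := by
  rfl

/-- the functorial flat cover of a sheaf of modules -/
noncomputable def covS : ModSite.Mod O ⥤ ModSite.Mod O := fgt O ⋙ covP O ⋙ shf O

/-- the functorial covering map -/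
noncomputable def cntS : covS O ⟶ 𝟭 (ModSite.Mod O) where
  app F := (shf O).map ((cntP O).app ((fgt O).obj F)) ≫ (adj O).counit.app F
  naturality F F' φ := by
    have h1 := (cntP O).naturality ((fgt O).map φ)
    have h2 := (adj O).counit.naturality φ
    simp only [Functor.id_obj, Functor.id_map] at h1 h2
    change (shf O).map ((covP O).map ((fgt O).map φ)) ≫
        (shf O).map ((cntP O).app ((fgt O).obj F')) ≫ (adj O).counit.app F' =
      ((shf O).map ((cntP O).app ((fgt O).obj F)) ≫ (adj O).counit.app F) ≫ φ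
    rw [← Functor.map_comp_assoc, h1, Functor.map_comp_assoc, Category.assoc]
    exact congrArg (fun t => (shf O).map ((cntP O).app ((fgt O).obj F)) ≫ t) h2

lemma isFlat_covS (F : ModSite.Mod O) : ModSite.IsFlat ((covS O).obj F) :=
  Groth.Agent.Lib.Helper5.TensorFlat.isFlat_shf _
    (Groth.Agent.Lib.Helper5.TensorFlat.freeCover_flat ((fgt O).obj F))

lemma epi_cntS (F : ModSite.Mod O) : Epi ((cntS O).app F) := by
  have h0 : (shf O).IsLeftAdjoint := (adj O).isLeftAdjoint
  have h1 : Epi ((shf O).map (Groth.Agent.Lib.Helper5.TensorFlat.freeCoverπ ((fgt O).obj F))) :=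
    inferInstance
  have h2 : IsIso ((adj O).counit.app F) := isIso_counit_app F
  have h3 : Epi ((adj O).counit.app F) := @IsIso.epi_of_iso _ _ _ _ _ h2
  exact @epi_comp _ _ _ _ _ _ h1 _ h3

/-- **functorial K-flat resolutions on a ringed site** -/
theorem exists_functorial_isKFlat_resolution :
    ∃ (P : CochainComplex (ModSite.Mod O) ℤ ⥤ CochainComplex (ModSite.Mod O) ℤ)
      (ψ : P ⟶ 𝟭 (CochainComplex (ModSite.Mod O) ℤ)),
      ∀ K : CochainComplex (ModSite.Mod O) ℤ, ModSite.IsKFlat (P.obj K) ∧ QuasiIso (ψ.app K) :=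
  exists_functorial_resolution (covS O) (cntS O) (Fl := fun M => ModSite.IsFlat M)
    (isFlat_covS O) (fun K => ModSite.IsKFlat K) (isKFlat_of_d_eq_zero O)
    (fun φ h1 h2 => (isKFlat_cone_two_of_three O φ).1 h1 h2)
    (fun D hD => isKFlat_colimit O D hD) (fun e h => isKFlat_of_iso O e h) (epi_cntS O)

end Groth.Agent.Lib.Helper5.KFlatF
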